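/-
Automorphisms of alternating groups of degree `≠ 6`.
-/
import Cfsg.Agent.SimplePower.BlockMax
import Cfsg.Agent.ThompsonWielandt.AltFacts
import Mathlib.GroupTheory.SpecificGroups.Alternating.Centralizer
import Mathlib.GroupTheory.Perm.Centralizer

set_option autoImplicit false
set_option linter.unusedSectionVars false

namespace CfsgLib.AutAlt

open Equiv Equiv.Perm CfsgLib.BlockMax

variable {Ω : Type*} [Fintype Ω] [DecidableEq Ω]

theorem factorial_ineq : ∀ j : ℕ, 3 ^ (j + 2) * (j + 3).factorial < (3 * j + 6).factorial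
  | 0 => by decide
  | j + 1 => by
    have ih := factorial_ineq j
    have e : (3 * (j + 1) + 6).factorial =
        (3 * j + 9) * ((3 * j + 8) * ((3 * j + 7) * (3 * j + 6).factorial)) := by
      rw [show 3 * (j + 1) + 6 = 3 * j + 8 + 1 by ring, Nat.factorial_succ,
        show 3 * j + 8 = 3 * j + 7 + 1 by ring, Nat.factorial_succ,
        show 3 * j + 7 = 3 * j + 6 + 1 by ring, Nat.factorial_succ]
    rw [e, show j + 1 + 3 = j + 3 + 1 by ring, Nat.factorial_succ, show j + 1 + 2 = j + 2 + 1 by ring,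
      pow_succ]
    calc 3 ^ (j + 2) * 3 * ((j + 3 + 1) * (j + 3).factorial)
        = 3 * (j + 4) * (3 ^ (j + 2) * (j + 3).factorial) := by ring
      _ < 3 * (j + 4) * (3 * j + 6).factorial := (Nat.mul_lt_mul_left (by omega)).2 ih
      _ ≤ (3 * j + 9) * ((3 * j + 8) * ((3 * j + 7) * (3 * j + 6).factorial)) := by
        rw [← mul_assoc (3 * j + 8), ← mul_assoc (3 * j + 9)]
        refine Nat.mul_le_mul_right _ ?_
        calc 3 * (j + 4) ≤ (3 * j + 9) * 2 := by omega
          _ ≤ (3 * j + 9) * ((3 * j + 8) * (3 * j + 7)) := Nat.mul_le_mul_left _ (by nlinarith)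

/-- Only in degree six do products of several 3-cycles form a class as large as the 3-cycles. -/
theorem class_size_ne {n k : ℕ} (h6 : n ≠ 6) (hk : 2 ≤ k) (hn : 3 * k ≤ n) :
    (n - 3 * k).factorial * 3 ^ k * k.factorial ≠ (n - 3).factorial * 3 := by
  intro h
  have hd : (n - 3 * k).factorial * (n - 3).descFactorial (3 * k - 3) = (n - 3).factorial := by
    have := Nat.factorial_mul_descFactorial (show 3 * k - 3 ≤ n - 3 by omega)
    rwa [show n - 3 - (3 * k - 3) = n - 3 * k by omega] at this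
  have h1 : (n - 3).descFactorial (3 * k - 3) * 3 = 3 ^ k * k.factorial := by
    refine Nat.eq_of_mul_eq_mul_left (n - 3 * k).factorial_pos ?_
    rw [← mul_assoc, hd, ← h, mul_assoc]
  rcases Nat.lt_or_ge k 3 with hk3 | hk3
  · obtain rfl : k = 2 := by omega
    have h2 : 24 ≤ (n - 3).descFactorial 3 :=
      (show 24 = Nat.descFactorial 4 3 by decide).le.trans (Nat.descFactorial_le _ (by omega))
    rw [show 3 * 2 - 3 = 3 by norm_num, Nat.factorial_two] at h1
    omega
  · obtain ⟨j, rfl⟩ : ∃ j, k = j + 3 := ⟨k - 3, by omega⟩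
    rw [show 3 * (j + 3) - 3 = 3 * j + 6 by omega] at h1
    have h2 : (3 * j + 6).factorial ≤ (n - 3).descFactorial (3 * j + 6) := by
      rw [← Nat.descFactorial_self]
      exact Nat.descFactorial_le _ (by omega)
    have h3 : 3 ^ (j + 3) = 3 * 3 ^ (j + 2) := by ring
    have h4 := factorial_ineq j
    rw [h3, mul_assoc] at h1
    omega

theorem exists_odd_commute {y : Perm Ω} {k : ℕ} (hy : y.cycleType = Multiset.replicate k 3)
    (hk : 2 ≤ k) : ∃ z : Perm Ω, z * y = y * z ∧ z ∉ alternatingGroup Ω := by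
  by_contra h
  simp only [not_exists, not_and, not_not] at h
  have hle : Subgroup.centralizer ({y} : Set (Perm Ω)) ≤ alternatingGroup Ω := fun z hz =>
    h z (Subgroup.mem_centralizer_singleton_iff.1 hz)
  have := (Equiv.Perm.centralizer_le_alternating_iff.1 hle).2.2 3
  rw [hy, Multiset.count_replicate_self] at this
  omega

theorem cycleType_of_orderOf_three {y : Perm Ω} (hy : orderOf y = 3) :
    ∃ k, 1 ≤ k ∧ 3 * k ≤ Fintype.card Ω ∧ y.cycleType = Multiset.replicate k 3 := by
  obtain ⟨k, hk⟩ := cycleType_prime_order (σ := y) (by rw [hy]; exact Nat.prime_three)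
  rw [hy] at hk
  refine ⟨k + 1, by omega, ?_, hk⟩
  have h1 := y.support.card_le_univ
  rw [← sum_cycleType, hk, Multiset.sum_replicate, smul_eq_mul] at h1
  omega

/-- Automorphisms preserve 3-cycles. -/
theorem isThreeCycle_map (h4 : 4 ≤ Fintype.card Ω) (h6 : Fintype.card Ω ≠ 6)
    (φ : MulAut (alternatingGroup Ω)) (t : alternatingGroup Ω)
    (ht : IsThreeCycle (t : Perm Ω)) : IsThreeCycle ((φ t : alternatingGroup Ω) : Perm Ω) := by
  classical
  have hot : orderOf ((φ t : alternatingGroup Ω) : Perm Ω) = 3 := by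
    rw [Subgroup.orderOf_coe, MulEquiv.orderOf_eq, ← Subgroup.orderOf_coe, ht.orderOf]
  obtain ⟨k, hk1, hkn, hk⟩ := cycleType_of_orderOf_three hot
  by_contra hne
  have hk2 : 2 ≤ k := by
    by_contra hlt
    obtain rfl : k = 1 := by omega
    exact hne hk
  have h5 : 5 ≤ Nat.card Ω := by rw [Nat.card_eq_fintype_card]; omega
  obtain ⟨z, hz, hzA⟩ := exists_odd_commute hk hk2
  have hclass : ∀ w : alternatingGroup Ω,
      IsThreeCycle (w : Perm Ω) ↔ ((φ w : alternatingGroup Ω) : Perm Ω).cycleType = Multiset.replicate k 3 := by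
    intro w
    constructor
    · intro hw
      have hc := MonoidHom.map_isConj (φ : alternatingGroup Ω →* alternatingGroup Ω)
        (alternatingGroup.isThreeCycle_isConj h5 ht hw)
      rw [← hk, ← isConj_iff_cycleType_eq]
      exact (MonoidHom.map_isConj (alternatingGroup Ω).subtype hc).symm
    · intro hw
      obtain ⟨π, hπ⟩ := isConj_iff.1 (isConj_iff_cycleType_eq.2 (hk.trans hw.symm))
      have hconj : IsConj (φ t) (φ w) := by
        by_cases hπA : π ∈ alternatingGroup Ω
        · exact isConj_iff.2 ⟨⟨π, hπA⟩, Subtype.ext hπ⟩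
        · refine isConj_iff.2 ⟨⟨π * z, ?_⟩, Subtype.ext ?_⟩
          · rw [mem_alternatingGroup] at hπA hzA ⊢
            rw [map_mul]
            rcases Int.units_eq_one_or (sign π) with a | a <;>
              rcases Int.units_eq_one_or (sign z) with b | b <;> simp [a, b] at hπA hzA ⊢
          · rw [← hπ]
            simp only [Subgroup.coe_mul, Subgroup.coe_inv]
            rw [mul_assoc π z, hz]
            group
      have hc := MonoidHom.map_isConj (φ.symm : alternatingGroup Ω →* alternatingGroup Ω) hconj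
      simp only [MonoidHom.coe_coe, MulEquiv.symm_apply_apply] at hc
      have := isConj_iff_cycleType_eq.1 (MonoidHom.map_isConj (alternatingGroup Ω).subtype hc)
      exact this.symm.trans ht
  have hcard : (Finset.univ.filter fun g : Perm Ω => g.cycleType = {3}).card =
      (Finset.univ.filter fun g : Perm Ω => g.cycleType = Multiset.replicate k 3).card := by
    have hev : ∀ g : Perm Ω, ∀ j, g.cycleType = Multiset.replicate j 3 → g ∈ alternatingGroup Ω := by
      intro g j hg
      rw [mem_alternatingGroup, sign_of_cycleType, hg, Multiset.sum_replicate, Multiset.card_replicate,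
        smul_eq_mul, show j * 3 + j = 2 * (2 * j) by ring, pow_mul, Int.units_sq, one_pow]
    refine Finset.card_bij (fun g hg => ((φ ⟨g, hev g 1 (by simpa using hg)⟩ : alternatingGroup Ω) : Perm Ω))
      (fun g hg => ?_) (fun g₁ h₁ g₂ h₂ e => ?_) (fun g hg => ?_)
    · simp only [Finset.mem_filter, Finset.mem_univ, true_and]
      exact (hclass _).1 (Finset.mem_filter.1 hg).2
    · exact congrArg Subtype.val (φ.injective (Subtype.ext e))
    · have hg' : g.cycleType = Multiset.replicate k 3 := (Finset.mem_filter.1 hg).2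
      refine ⟨((φ.symm ⟨g, hev g k hg'⟩ : alternatingGroup Ω) : Perm Ω), ?_, ?_⟩
      · simp only [Finset.mem_filter, Finset.mem_univ, true_and]
        exact (hclass _).2 (by rw [MulEquiv.apply_symm_apply]; exact hg')
      · simp
  have e1 := Equiv.Perm.card_of_cycleType_mul_eq (α := Ω) ({3} : Multiset ℕ)
  have e2 := Equiv.Perm.card_of_cycleType_mul_eq (α := Ω) (Multiset.replicate k 3)
  rw [if_pos ⟨by simp; omega, by simp⟩] at e1
  rw [if_pos ⟨by simp; omega, fun a ha => by rw [Multiset.eq_of_mem_replicate ha]; norm_num⟩] at e2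
  rw [← hcard, ← e1] at e2
  have hpos : 0 < (Finset.univ.filter fun g : Perm Ω => g.cycleType = {3}).card :=
    Finset.card_pos.2 ⟨(t : Perm Ω), Finset.mem_filter.2 ⟨Finset.mem_univ _, ht⟩⟩
  have e3 := Nat.eq_of_mul_eq_mul_left hpos e2
  simp [Multiset.sum_replicate, Multiset.prod_replicate, Multiset.toFinset_replicate,
    show k ≠ 0 by omega, Multiset.count_replicate_self] at e3
  exact class_size_ne h6 hk2 hkn (by rw [mul_comm 3 k]; linarith [e3])

theorem eq_c3 {g : Perm Ω} (hg : IsThreeCycle g) {a : Ω} (ha : g a ≠ a) :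
    g = c3 a (g a) (g (g a)) ∧ a ≠ g a ∧ a ≠ g (g a) ∧ g a ≠ g (g a) := by
  have hgga : g (g a) ≠ g a := fun e => ha (g.injective e)
  have hg3 : g (g (g a)) = a := by
    have h3 : g ^ 3 = 1 := by rw [← hg.orderOf]; exact pow_orderOf_eq_one g
    exact congrArg (fun k : Perm Ω => k a) h3
  have hgga' : g (g a) ≠ a := fun e => ha (by have := hg3; rw [e] at this; exact this)
  have hsupp : g.support = {a, g a, g (g a)} := by
    refine (Finset.eq_of_subset_of_card_le ?_ ?_).symm
    · intro z hz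
      simp only [Finset.mem_insert, Finset.mem_singleton] at hz
      rcases hz with rfl | rfl | rfl
      · exact mem_support.2 ha
      · exact apply_mem_support.2 (mem_support.2 ha)
      · exact apply_mem_support.2 (apply_mem_support.2 (mem_support.2 ha))
    · rw [hg.card_support]
      exact (Finset.card_eq_three.2 ⟨a, g a, g (g a), ha.symm, hgga'.symm, hgga.symm, rfl⟩).ge
  refine ⟨?_, ha.symm, hgga'.symm, hgga.symm⟩
  obtain ⟨a1, a2, a3, a4⟩ := c3_apply ha.symm hgga'.symm hgga.symm
  ext z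
  rcases eq_or_ne z a with rfl | hza
  · rw [a1]
  rcases eq_or_ne z (g a) with rfl | hzb
  · rw [a2]
  rcases eq_or_ne z (g (g a)) with rfl | hzc
  · rw [a3, hg3]
  rw [a4 z hza hzb hzc]
  exact notMem_support.1 (by rw [hsupp]; simp [hza, hzb, hzc])

/-- Two 3-cycles whose product has order two share an arc. -/
theorem exists_common_arc {y z : Perm Ω} (hy : IsThreeCycle y) (hz : IsThreeCycle z)
    (hne : y * z ≠ 1) (hsq : y * z * (y * z) = 1) : ∃ a, y a ≠ a ∧ z a = y a := by
  by_contra hno
  simp only [not_exists, not_and] at hno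
  obtain ⟨a, hya, hza⟩ : ∃ a, y a ≠ a ∧ z a ≠ a := by
    by_contra hd
    simp only [not_exists, not_and, not_not] at hd
    have hdis : Equiv.Perm.Disjoint y z := fun x => by
      by_cases hx : y x = x
      · exact Or.inl hx
      · exact Or.inr (hd x hx)
    obtain ⟨a, ha⟩ : ∃ a, y a ≠ a := by
      by_contra hh
      simp only [not_exists, not_not] at hh
      have : y = 1 := Equiv.ext hh
      exact hy.isCycle.ne_one this
    have h2 : y * z * (y * z) = (y * y) * (z * z) := by
      rw [mul_assoc, ← mul_assoc z, ← hdis.commute.eq]; group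
    have h3 := congrArg (fun f : Perm Ω => f a) (h2.symm.trans hsq)
    simp only [Perm.mul_apply, Perm.one_apply] at h3
    rw [hd a ha, hd a ha] at h3
    exact (eq_c3 hy ha).2.2.1 h3.symm
  obtain ⟨ey, nab, nac, nbc⟩ := eq_c3 hy hya
  obtain ⟨ez, nad, nae, nde⟩ := eq_c3 hz hza
  set b := y a with hb
  set c := y b with hc
  set d := z a with hd
  set e := z d with he
  obtain ⟨y1, y2, y3, y4⟩ := c3_apply nab nac nbc
  obtain ⟨z1, z2, z3, z4⟩ := c3_apply nad nae nde
  rw [← ey] at y1 y2 y3 y4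
  rw [← ez] at z1 z2 z3 z4
  have hdb : d ≠ b := hno a hya
  have hec : e ≠ c := by
    intro h
    refine hno e ?_ ?_
    · rw [h, y3]; exact nac
    · rw [z3, h, y3]
  have H : ∀ x, y (z (y (z x))) = x := fun x => congrArg (fun f : Perm Ω => f x) hsq
  have Ha := H a
  rw [z1] at Ha
  by_cases hdc : d = c
  · by_cases heb : e = b
    · refine hne (Equiv.ext fun x => ?_)
      rw [Perm.mul_apply, Perm.one_apply]
      rcases eq_or_ne x a with rfl | hxa
      · rw [z1, hdc, y3]
      rcases eq_or_ne x d with rfl | hxd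
      · rw [z2, heb, y2, hdc]
      rcases eq_or_ne x e with rfl | hxe
      · rw [z3, y1, heb]
      rw [z4 x hxa hxd hxe]
      exact y4 x hxa (by rwa [← heb]) (by rwa [← hdc])
    · -- `z = (a c e)`
      have He := H e
      rw [z3, y1, z4 b nab.symm hdb.symm (Ne.symm heb), y2] at He
      exact hec He.symm
  · rw [y4 d nad.symm hdb hdc, z2] at Ha
    by_cases heb : e = b
    · rw [heb, y2] at Ha
      exact nac Ha.symm
    · rw [y4 e nae.symm heb hec] at Ha
      exact nae Ha.symm

/-- An automorphism preserving 3-cycles is conjugation. -/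
theorem exists_conj_of_map (h4 : 4 ≤ Fintype.card Ω) {o u : Ω} (hou : o ≠ u)
    (φ : MulAut (alternatingGroup Ω)) (hmap : ∀ t : alternatingGroup Ω, IsThreeCycle (t : Perm Ω) →
      IsThreeCycle ((φ t : alternatingGroup Ω) : Perm Ω)) : ∃ σ : Perm Ω, MulAut.conjNormal σ = φ := by
  classical
  let I := {i : Ω // i ≠ o ∧ i ≠ u}
  let t : I → alternatingGroup Ω := fun i =>
    ⟨c3 o u i.1, c3_sign hou i.2.2.symm⟩
  have ht3 : ∀ i, IsThreeCycle (t i : Perm Ω) := fun i =>
    isThreeCycle_swap_mul_swap_same hou (Ne.symm i.2.1) (Ne.symm i.2.2) |> fun h => by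
      have e : (t i : Perm Ω) = swap u o * swap u i.1 := by
        show swap o u * swap u i.1 = _
        rw [swap_comm o u]
      rw [e]
      exact isThreeCycle_swap_mul_swap_same hou.symm (Ne.symm i.2.2) (Ne.symm i.2.1)
  let y : I → Perm Ω := fun i => ((φ (t i) : alternatingGroup Ω) : Perm Ω)
  have hy3 : ∀ i, IsThreeCycle (y i) := fun i => hmap _ (ht3 i)
  have hyinj : Function.Injective y := by
    intro i j h
    have h1 : (t i : Perm Ω) = t j := congrArg Subtype.val (φ.injective (Subtype.ext h))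
    have h2 := congrArg (fun f : Perm Ω => f u) h1
    simp only [t] at h2
    rw [(c3_apply hou i.2.1.symm i.2.2.symm).2.1, (c3_apply hou j.2.1.symm j.2.2.symm).2.1] at h2
    exact Subtype.ext h2
  have hpair : ∀ i j : I, i ≠ j → ∃ a, y i a ≠ a ∧ y j a = y i a := by
    intro i j hij
    have hij' : i.1 ≠ j.1 := fun e => hij (Subtype.ext e)
    have hti : (t i : Perm Ω) * (t j : Perm Ω) = swap o i.1 * swap u j.1 := by
      obtain ⟨a1, a2, a3, a4⟩ := c3_apply hou i.2.1.symm i.2.2.symm
      obtain ⟨b1, b2, b3, b4⟩ := c3_apply hou j.2.1.symm j.2.2.symm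
      ext x
      simp only [t, Perm.mul_apply]
      rcases eq_or_ne x o with rfl | hxo
      · rw [b1, a2, swap_apply_of_ne_of_ne hou j.2.1.symm, swap_apply_left]
      rcases eq_or_ne x u with rfl | hxu
      · rw [b2, a4 _ j.2.1 j.2.2 hij'.symm, swap_apply_left, swap_apply_of_ne_of_ne j.2.1 hij'.symm]
      rcases eq_or_ne x j.1 with rfl | hxj
      · rw [b3, a1, swap_apply_right, swap_apply_of_ne_of_ne hou.symm i.2.2.symm]
      rw [b4 x hxo hxu hxj, swap_apply_of_ne_of_ne hxu hxj]
      rcases eq_or_ne x i.1 with rfl | hxi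
      · rw [a3, swap_apply_right]
      rw [a4 x hxo hxu hxi, swap_apply_of_ne_of_ne hxo hxi]
    have hcomm : swap o i.1 * swap u j.1 = swap u j.1 * swap o i.1 := by
      refine (Equiv.Perm.Disjoint.commute ?_).eq
      rw [Equiv.Perm.disjoint_iff_disjoint_support, support_swap (Ne.symm i.2.1), support_swap (Ne.symm j.2.2)]
      simp [hou, hou.symm, i.2.1, i.2.2, i.2.1.symm, i.2.2.symm, j.2.1, j.2.2, j.2.1.symm, j.2.2.symm, hij', hij'.symm]
    refine exists_common_arc (hy3 i) (hy3 j) ?_ ?_
    · intro e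
      have e2 : t i * t j = 1 := φ.injective (by rw [map_mul, map_one]; exact Subtype.ext e)
      have e3 := congrArg (fun f : alternatingGroup Ω => (f : Perm Ω) o) e2
      simp only [Subgroup.coe_mul, Subgroup.coe_one, hti] at e3
      rw [Perm.mul_apply, swap_apply_of_ne_of_ne hou j.2.1.symm, swap_apply_left, Perm.one_apply] at e3
      exact i.2.1 e3
    · have e : (t i * t j) * (t i * t j) = 1 := by
        apply Subtype.ext
        simp only [Subgroup.coe_mul, Subgroup.coe_one, hti]
        calc swap o i.1 * swap u j.1 * (swap o i.1 * swap u j.1)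
            = swap o i.1 * swap u j.1 * (swap u j.1 * swap o i.1) := by rw [hcomm]
          _ = 1 := by rw [mul_assoc, swap_mul_self_mul, swap_mul_self]
      have e2 := congrArg φ e
      rw [map_mul, map_mul, map_one] at e2
      exact congrArg Subtype.val e2
  obtain ⟨i₀, i₁, hi01⟩ : ∃ i j : I, i ≠ j := by
    refine Fintype.exists_pair_of_one_lt_card ?_
    rw [Fintype.card_subtype, show (Finset.univ.filter fun i => i ≠ o ∧ i ≠ u) = ({o, u} : Finset Ω)ᶜ by
      ext; simp [not_or], Finset.card_compl, Finset.card_pair hou]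
    omega
  obtain ⟨a, hya, hz1⟩ := hpair i₀ i₁ hi01
  set b := y i₀ a with hbdef
  have hall : ∀ i, y i a = b := by
    intro i
    by_cases h0 : i = i₀
    · rw [h0]
    by_cases h1 : i = i₁
    · rw [h1, hz1]
    by_contra hne
    obtain ⟨p, hp, hpi⟩ := hpair i₀ i (Ne.symm h0)
    obtain ⟨q, hq, hqi⟩ := hpair i₁ i (Ne.symm h1)
    obtain ⟨ey, nab, nac, nbc⟩ := eq_c3 (hy3 i₀) hya
    have hya1 : y i₁ a ≠ a := by rw [hz1]; exact hya
    obtain ⟨ey1, -, nad, nbd⟩ := eq_c3 (hy3 i₁) hya1
    rw [hz1] at ey1 nad nbd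
    obtain ⟨s1, s2, s3, s4⟩ := c3_apply nab nac nbc
    obtain ⟨r1, r2, r3, r4⟩ := c3_apply nab nad nbd
    rw [← hbdef] at ey s1 s2 s3 s4 nac nbc
    set c := y i₀ b
    set d := y i₁ b
    rw [← ey] at s1 s2 s3 s4
    rw [← ey1] at r1 r2 r3 r4
    have hcd : c ≠ d := fun h => hi01 (hyinj (by rw [ey, ey1, h]))
    have hp' : p = b ∨ p = c := by
      by_contra hh
      simp only [not_or] at hh
      rcases eq_or_ne p a with rfl | hpa
      · exact hne hpi
      · exact hp (s4 p hpa hh.1 hh.2)
    have hq' : q = b ∨ q = d := by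
      by_contra hh
      simp only [not_or] at hh
      rcases eq_or_ne q a with rfl | hqa
      · rw [hz1] at hqi; exact hne hqi
      · exact hq (r4 q hqa hh.1 hh.2)
    rcases hp' with rfl | rfl <;> rcases hq' with rfl | rfl
    · exact hcd (s2.symm.trans (hpi.symm.trans (hqi.trans r2)))
    · rw [s2] at hpi; rw [r3] at hqi
      obtain ⟨ew, -, -, -⟩ := eq_c3 (hy3 i) (show y i b ≠ b by rw [hpi]; exact nbc.symm)
      obtain ⟨m1, m2, m3⟩ := (eq_c3 (hy3 i) (show y i b ≠ b by rw [hpi]; exact nbc.symm)).2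
      obtain ⟨w1, w2, w3, w4⟩ := c3_apply m1 m2 m3
      rw [← ew] at w1 w2 w3 w4
      rw [hpi] at w2 w3 w4
      by_cases hdw : d = y i c
      · rw [hdw, w3] at hqi; exact nab hqi.symm
      · exact nad (hqi.symm.trans (w4 d nbd.symm hcd.symm hdw))
    · rw [s3] at hpi; rw [r2] at hqi
      obtain ⟨ew, -, -, -⟩ := eq_c3 (hy3 i) (show y i b ≠ b by rw [hqi]; exact nbd.symm)
      obtain ⟨m1, m2, m3⟩ := (eq_c3 (hy3 i) (show y i b ≠ b by rw [hqi]; exact nbd.symm)).2
      obtain ⟨w1, w2, w3, w4⟩ := c3_apply m1 m2 m3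
      rw [← ew] at w1 w2 w3 w4
      rw [hqi] at w2 w3 w4
      by_cases hdw : c = y i d
      · rw [hdw, w3] at hpi; exact nab hpi.symm
      · exact nac (hpi.symm.trans (w4 c nbc.symm hcd hdw))
    · rw [s3] at hpi; rw [r3] at hqi
      exact hcd ((y i).injective (hpi.trans hqi.symm))
  have hab : a ≠ b := fun h => hya h.symm
  have hc : ∀ i, y i = c3 a b (y i b) ∧ a ≠ y i b ∧ b ≠ y i b := fun i => by
    obtain ⟨e, -, h2, h3⟩ := eq_c3 (hy3 i) (show y i a ≠ a by rw [hall]; exact hya)
    rw [hall] at e h2 h3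
    exact ⟨e, h2, h3⟩
  let f : Ω → Ω := fun x => if x = o then a else if h : x = u then b else
    if h' : x ≠ o then y ⟨x, h', h⟩ b else a
  have hfo : f o = a := by simp [f]
  have hfu : f u = b := by simp [f, hou.symm]
  have hfi : ∀ i : I, f i.1 = y i b := fun i => by simp [f, i.2.1, i.2.2]
  have hfinj : Function.Injective f := by
    intro x x' h
    by_cases hxo : x = o <;> by_cases hxo' : x' = o <;> by_cases hxu : x = u <;> by_cases hxu' : x' = u <;>
      simp only [f, hxo, hxu, hxo', hxu', hou, hou.symm, if_true, if_false, dite_true, dite_false, ne_eq,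
        not_false_eq_true, not_true_eq_false] at h <;>
      first
        | exact hxo.trans hxo'.symm
        | exact hxu.trans hxu'.symm
        | exact absurd h hab
        | exact absurd h hab.symm
        | exact absurd h (hc _).2.1
        | exact absurd h.symm (hc _).2.1
        | exact absurd h (hc _).2.2
        | exact absurd h.symm (hc _).2.2
        | exact congrArg Subtype.val (hyinj ((hc _).1.trans ((congrArg (c3 a b) h).trans (hc _).1.symm)))
        | exact absurd (hxo.symm.trans hxu) hou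
        | exact absurd (hxo'.symm.trans hxu') hou
  let σ : Perm Ω := Equiv.ofBijective f ⟨hfinj, Finite.injective_iff_surjective.1 hfinj⟩
  have hσ : ∀ x, σ x = f x := fun _ => rfl
  refine ⟨σ, MulEquiv.ext fun g => ?_⟩
  let H : Subgroup (alternatingGroup Ω) :=
    MonoidHom.eqLocus (MulAut.conjNormal σ : MulAut (alternatingGroup Ω)).toMonoidHom φ.toMonoidHom
  have hgen : ∀ i, t i ∈ H := by
    intro i
    show MulAut.conjNormal σ (t i) = φ (t i)
    apply Subtype.ext
    rw [MulAut.conjNormal_apply]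
    show σ * c3 o u i.1 * σ⁻¹ = y i
    rw [c3_conj, hσ, hσ, hσ, hfo, hfu, hfi]
    exact (hc i).1.symm
  let L := H.map (alternatingGroup Ω).subtype
  have hL : ∀ i : I, c3 o u i.1 ∈ L := fun i => ⟨t i, hgen i, rfl⟩
  have hrot : ∀ {p q r : Ω}, p ≠ q → p ≠ r → q ≠ r → c3 q r p = c3 p q r := by
    intro p q r h1 h2 h3
    obtain ⟨a1, a2, a3, a4⟩ := c3_apply h1 h2 h3
    obtain ⟨b1, b2, b3, b4⟩ := c3_apply h3 h1.symm h2.symm
    ext z
    rcases eq_or_ne z p with rfl | hzp
    · rw [b3, a1]
    rcases eq_or_ne z q with rfl | hzq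
    · rw [b1, a2]
    rcases eq_or_ne z r with rfl | hzr
    · rw [b2, a3]
    rw [a4 z hzp hzq hzr, b4 z hzq hzr hzp]
  have hou' : ∀ i : I, c3 o i.1 u ∈ L := fun i => by
    have h := L.inv_mem (hL i)
    have e : (c3 o u i.1)⁻¹ = c3 o i.1 u := by
      obtain ⟨a1, a2, a3, a4⟩ := c3_apply hou i.2.1.symm i.2.2.symm
      obtain ⟨b1, b2, b3, b4⟩ := c3_apply i.2.1.symm hou i.2.2
      refine inv_eq_of_mul_eq_one_right (Equiv.ext fun z => ?_)
      rw [Perm.mul_apply, Perm.one_apply]
      rcases eq_or_ne z o with rfl | h1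
      · rw [b1, a3]
      rcases eq_or_ne z i.1 with rfl | h2
      · rw [b2, a2]
      rcases eq_or_ne z u with rfl | h3
      · rw [b3, a1]
      rw [b4 z h1 h2 h3, a4 z h1 h3 h2]
    rwa [e] at h
  have ho : ∀ q r, o ≠ q → o ≠ r → q ≠ r → c3 o q r ∈ L := by
    intro q r h1 h2 h3
    rcases eq_or_ne q u with rfl | hq
    · exact hL ⟨r, h2.symm, h3.symm⟩
    rcases eq_or_ne r u with rfl | hr
    · exact hou' ⟨q, h1.symm, h3⟩
    rw [← c3_mul h1 h2 h3 hou.symm hq.symm hr.symm]
    refine L.mul_mem (hou' ⟨q, h1.symm, hq⟩) ?_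
    rw [hrot hq.symm hr.symm h3]
    have h := L.mul_mem (L.mul_mem (hL ⟨q, h1.symm, hq⟩) (hL ⟨r, h2.symm, hr⟩)) (L.inv_mem (hL ⟨q, h1.symm, hq⟩))
    obtain ⟨a1, a2, a3, a4⟩ := c3_apply hou h1 hq.symm
    rw [c3_conj, a1, a2, a4 r h2.symm hr h3.symm] at h
    exact h
  have hall3 : ∀ p q r : Ω, p ≠ q → p ≠ r → q ≠ r → c3 p q r ∈ L := by
    intro p q r h1 h2 h3
    rcases eq_or_ne p o with rfl | hp
    · exact ho q r h1 h2 h3
    rcases eq_or_ne q o with rfl | hq
    · rw [← hrot h1 h2 h3]
      exact ho r p h3 h1.symm h2.symm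
    rcases eq_or_ne r o with rfl | hr
    · rw [← hrot h1 h2 h3, ← hrot h3 h1.symm h2.symm]
      exact ho p q h2.symm h3.symm h1
    rw [← c3_mul h1 h2 h3 hp.symm hq.symm hr.symm]
    refine L.mul_mem ?_ ?_
    · rw [← hrot h1 hp hq, ← hrot hq h1.symm hp.symm]
      exact ho p q hp.symm hq.symm h1
    · rw [← hrot h3 hq hr, ← hrot hr h3.symm hq.symm]
      exact ho q r hq.symm hr.symm h3
  obtain ⟨g', hg', e⟩ := alt_le_of_c3 L hall3 g.2
  rw [show g = g' from Subtype.ext e.symm]
  exact hg'

/-- The automorphism is conjugation. -/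
theorem exists_conj (h4 : 4 ≤ Fintype.card Ω) (h6 : Fintype.card Ω ≠ 6) {o u : Ω} (hou : o ≠ u)
    (φ : MulAut (alternatingGroup Ω)) : ∃ σ : Perm Ω, MulAut.conjNormal σ = φ :=
  exists_conj_of_map h4 hou φ (isThreeCycle_map h4 h6 φ)

end CfsgLib.AutAlt
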