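import Cfsg.Agent.AutAlt.Main
import Mathlib.GroupTheory.IndexNormal
import Mathlib.GroupTheory.PGroup

/-!
`p`-groups of automorphisms of alternating groups, and elements of order `pq`.
-/

set_option autoImplicit false
set_option linter.unusedSectionVars false
set_option linter.style.haveILetI false

namespace CfsgLib.AutAlt

open Equiv Equiv.Perm

universe u

/-- A `p`-group acting faithfully on fewer than `p^2` points is commutative. -/
theorem isMulCommutative_of_lt_sq {p : ℕ} [hp : Fact p.Prime] {P : Type*} [Group P] [Finite P]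
    (hP : IsPGroup p P) {Ω : Type*} [Fintype Ω] (hΩ : Fintype.card Ω < p ^ 2) (ι : P →* Perm Ω)
    (hι : Function.Injective ι) : IsMulCommutative P := by
  refine ⟨⟨fun x y => hι (Equiv.ext fun a => ?_)⟩⟩
  letI : MulAction P Ω := MulAction.compHom Ω ι
  show (x * y) • a = (y * x) • a
  set K := MulAction.stabilizer P a with hK
  suffices h : (y * x)⁻¹ * (x * y) ∈ K by
    have : ((y * x)⁻¹ * (x * y)) • a = a := h
    rwa [mul_smul, inv_smul_eq_iff] at this
  obtain ⟨e, he⟩ := hP.index K
  have hle : K.index ≤ Fintype.card Ω := by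
    rw [hK, MulAction.index_stabilizer, ← Nat.card_eq_fintype_card, ← Nat.card_coe_set_eq]
    exact Nat.card_le_card_of_injective _ Subtype.coe_injective
  have he2 : e < 2 := by
    by_contra hlt
    have := Nat.pow_le_pow_right hp.out.pos (not_lt.1 hlt)
    omega
  interval_cases e
  · rw [pow_zero, Subgroup.index_eq_one] at he
    rw [he]; exact Subgroup.mem_top _
  · rw [pow_one] at he
    have hKn : K.Normal := by
      refine Subgroup.normal_of_index_eq_minFac_card ?_
      obtain ⟨j, hj⟩ := IsPGroup.iff_card.1 hP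
      have hd := K.index_dvd_card
      rw [hj, he] at hd
      have hj0 : j ≠ 0 := fun e0 => by
        rw [e0, pow_zero, Nat.dvd_one] at hd
        exact hp.out.ne_one hd
      rw [he, hj, Nat.pow_minFac hj0, hp.out.minFac_eq]
    haveI := hKn
    have hc : Nat.card (P ⧸ K) = p := by rw [← Subgroup.index_eq_card, he]
    haveI := isCyclic_of_prime_card hc
    letI := IsCyclic.commGroup (α := P ⧸ K)
    rw [← QuotientGroup.eq_one_iff]
    simp only [QuotientGroup.mk_mul, QuotientGroup.mk_inv]
    rw [mul_comm (y : P ⧸ K) x, inv_mul_cancel]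

/-- `A_n` contains an element of order `p * q` when both squares fit into `n`. -/
theorem exists_orderOf_mul {n p q : ℕ} (hp : p.Prime) (hq : q.Prime) (hpq : p ≠ q) (hn : 5 ≤ n)
    (hq2 : q ≠ 2) (hpn : p ≠ 2 → p ^ 2 ≤ n) (hqn : q ^ 2 ≤ n) :
    ∃ g : alternatingGroup (Fin n), orderOf g = p * q := by
  have hq3 : 3 ≤ q := by have := hq.two_le; omega
  have hcop : Nat.lcm p q = p * q := ((Nat.coprime_primes hp hq).2 hpq).lcm_eq_mul
  have hqq : 3 * q ≤ n := le_trans (by rw [pow_two]; exact Nat.mul_le_mul_right q hq3) hqn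
  have key : ∀ m : Multiset ℕ, m.sum ≤ n → (∀ a ∈ m, 2 ≤ a) → Even (m.sum + Multiset.card m) →
      ∃ g : alternatingGroup (Fin n), orderOf g = m.lcm := by
    intro m h1 h2 h3
    obtain ⟨g, hg⟩ := (Equiv.Perm.exists_with_cycleType_iff (Fin n)).2
      ⟨by rwa [Fintype.card_fin], h2⟩
    have hA : g ∈ alternatingGroup (Fin n) := by
      rw [mem_alternatingGroup, sign_of_cycleType, hg, Even.neg_one_pow h3]
    exact ⟨⟨g, hA⟩, by rw [← Subgroup.orderOf_coe, ← lcm_cycleType, hg]⟩
  by_cases h2 : p = 2
  · subst h2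
    obtain ⟨g, hg⟩ := key {2, 2, q}
      (by simp; omega)
      (by intro a ha; simp at ha; rcases ha with rfl | rfl <;> omega)
      (by
        have := hq.odd_of_ne_two hq2
        simp
        obtain ⟨t, ht⟩ := this
        exact ⟨t + 4, by omega⟩)
    refine ⟨g, hg.trans ?_⟩
    simp [lcm_eq_nat_lcm, ← Nat.lcm_assoc, hcop]
  · have hp3 : 3 ≤ p := by have := hp.two_le; omega
    have hpp : 3 * p ≤ n := le_trans (by rw [pow_two]; exact Nat.mul_le_mul_right p hp3) (hpn h2)
    obtain ⟨g, hg⟩ := key {p, q}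
      (by simp; omega)
      (by intro a ha; simp at ha; rcases ha with rfl | rfl <;> omega)
      (by
        obtain ⟨s, hs⟩ := hp.odd_of_ne_two h2
        obtain ⟨t, ht⟩ := hq.odd_of_ne_two hq2
        simp
        exact ⟨s + t + 2, by omega⟩)
    refine ⟨g, hg.trans ?_⟩
    simp [lcm_eq_nat_lcm, hcop]

theorem conjNormal_injective {n : ℕ} (hn : 5 ≤ n) :
    Function.Injective (MulAut.conjNormal : Perm (Fin n) →* MulAut (alternatingGroup (Fin n))) := by
  intro σ τ h
  have hc : τ⁻¹ * σ ∈ Subgroup.centralizer (alternatingGroup (Fin n) : Set (Perm (Fin n))) := by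
    rw [Subgroup.mem_centralizer_iff]
    intro g hg
    have e := congrArg (fun ψ : MulAut (alternatingGroup (Fin n)) =>
      ((ψ ⟨g, hg⟩ : alternatingGroup (Fin n)) : Perm (Fin n))) h
    simp only [MulAut.conjNormal_apply] at e
    calc g * (τ⁻¹ * σ) = τ⁻¹ * (τ * g * τ⁻¹) * σ := by group
      _ = τ⁻¹ * (σ * g * σ⁻¹) * σ := by rw [e]
      _ = τ⁻¹ * σ * g := by group
  rw [CfsgLib.ThompsonWielandt.centralizer_alternating (by simp; omega), Subgroup.mem_bot,
    inv_mul_eq_one] at hc
  exact hc.symm

/-- In degree 6 the square of any automorphism preserves 3-cycles. -/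
theorem six_sq (φ : MulAut (alternatingGroup (Fin 6))) (t : alternatingGroup (Fin 6))
    (ht : IsThreeCycle (t : Perm (Fin 6))) :
    IsThreeCycle ((φ (φ t) : alternatingGroup (Fin 6)) : Perm (Fin 6)) := by
  have h5 : 5 ≤ Nat.card (Fin 6) := by simp
  have hcyc : ∀ w : alternatingGroup (Fin 6), orderOf w = 3 →
      (w : Perm (Fin 6)).cycleType = {3} ∨ (w : Perm (Fin 6)).cycleType = Multiset.replicate 2 3 := by
    intro w hw
    obtain ⟨k, h1, h2, hk⟩ := cycleType_of_orderOf_three (y := (w : Perm (Fin 6)))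
      (by rw [Subgroup.orderOf_coe]; exact hw)
    simp at h2
    have : k = 1 ∨ k = 2 := by omega
    rcases this with rfl | rfl
    · exact Or.inl hk
    · exact Or.inr hk
  have hconj : ∀ v w : alternatingGroup (Fin 6),
      (v : Perm (Fin 6)).cycleType = (w : Perm (Fin 6)).cycleType → orderOf v = 3 → IsConj v w := by
    intro v w hvw hv
    rcases hcyc v hv with h | h
    · exact alternatingGroup.isThreeCycle_isConj h5 h (hvw.symm.trans h)
    · obtain ⟨π, hπ⟩ := isConj_iff.1 (isConj_iff_cycleType_eq.2 hvw)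
      obtain ⟨z, hz, hzA⟩ := exists_odd_commute h le_rfl
      by_cases hπA : π ∈ alternatingGroup (Fin 6)
      · exact isConj_iff.2 ⟨⟨π, hπA⟩, Subtype.ext hπ⟩
      · refine isConj_iff.2 ⟨⟨π * z, ?_⟩, Subtype.ext ?_⟩
        · rw [mem_alternatingGroup] at hπA hzA ⊢
          rw [map_mul]
          rcases Int.units_eq_one_or (sign π) with a | a <;>
            rcases Int.units_eq_one_or (sign z) with b | b <;> simp [a, b] at hπA hzA ⊢
        · rw [← hπ]
          simp only [Subgroup.coe_mul, Subgroup.coe_inv]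
          rw [mul_assoc π z, hz]
          group
  have hsame : ∀ v w : alternatingGroup (Fin 6), orderOf v = 3 →
      (v : Perm (Fin 6)).cycleType = (w : Perm (Fin 6)).cycleType →
      ((φ v : alternatingGroup (Fin 6)) : Perm (Fin 6)).cycleType =
        ((φ w : alternatingGroup (Fin 6)) : Perm (Fin 6)).cycleType := fun v w hv h =>
    isConj_iff_cycleType_eq.1 (MonoidHom.map_isConj (alternatingGroup (Fin 6)).subtype
      (MonoidHom.map_isConj (φ : alternatingGroup (Fin 6) →* alternatingGroup (Fin 6)) (hconj v w h hv)))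
  have hot : orderOf t = 3 := by rw [← Subgroup.orderOf_coe]; exact ht.orderOf
  have ho1 : orderOf (φ t) = 3 := by rw [MulEquiv.orderOf_eq, hot]
  rcases hcyc _ ho1 with h1 | h1
  · exact (hsame (φ t) t ho1 (h1.trans ht.symm)).trans h1
  · rcases hcyc (φ (φ t)) (by rw [MulEquiv.orderOf_eq, ho1]) with h2 | h2
    · exact h2
    · exfalso
      have ho : orderOf (φ.symm t) = 3 := by rw [MulEquiv.orderOf_eq, hot]
      have e : ((φ (φ.symm t) : alternatingGroup (Fin 6)) : Perm (Fin 6)).cycleType =
          Multiset.replicate 2 3 := by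
        rcases hcyc _ ho with h3 | h3
        · exact (hsame _ t ho (h3.trans ht.symm)).trans h1
        · exact (hsame _ (φ t) ho (h3.trans h1.symm)).trans h2
      rw [MulEquiv.apply_symm_apply, show (t : Perm (Fin 6)).cycleType = {3} from ht] at e
      simpa using congrArg Multiset.card e

/-- An element of odd order of `Aut A_n` is conjugation by a permutation. -/
theorem mem_range_of_odd_order {n : ℕ} (hn : 5 ≤ n) {φ : MulAut (alternatingGroup (Fin n))} {k : ℕ}
    (hk : Odd k) (hφ : φ ^ k = 1) :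
    φ ∈ (MulAut.conjNormal : Perm (Fin n) →* MulAut (alternatingGroup (Fin n))).range := by
  have hou : (⟨0, by omega⟩ : Fin n) ≠ ⟨1, by omega⟩ := by simp [Fin.ext_iff]
  by_cases h6 : n = 6
  · subst h6
    obtain ⟨j, rfl⟩ := hk
    have hmem : φ ^ 2 ∈
        (MulAut.conjNormal : Perm (Fin 6) →* MulAut (alternatingGroup (Fin 6))).range := by
      obtain ⟨σ, hσ⟩ := exists_conj_of_map (by simp) hou (φ ^ 2)
        (fun t ht => by rw [pow_two]; exact six_sq φ t ht)
      exact ⟨σ, hσ⟩
    have : φ = (φ ^ 2) ^ (j + 1) := by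
      rw [← pow_mul, show 2 * (j + 1) = (2 * j + 1) + 1 by ring, pow_succ, hφ, one_mul]
    rw [this]
    exact pow_mem hmem _
  · obtain ⟨σ, hσ⟩ := exists_conj (by simp; omega) (by simpa using h6) hou φ
    exact ⟨σ, hσ⟩

/-- For odd `r` with `n < r^2`, the `r`-groups of automorphisms of `A_n` are commutative. -/
theorem comm_of_lt_sq {n : ℕ} (hn : 5 ≤ n) {r : ℕ} [hr : Fact r.Prime] (hr2 : r ≠ 2)
    (hlt : n < r ^ 2) (P : Subgroup (MulAut (alternatingGroup (Fin n)))) (hP : IsPGroup r P) :
    IsMulCommutative P := by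
  set c := (MulAut.conjNormal : Perm (Fin n) →* MulAut (alternatingGroup (Fin n)))
  have hrange : ∀ x : P, (x : MulAut (alternatingGroup (Fin n))) ∈ c.range := fun x => by
    obtain ⟨k, hk⟩ := hP x
    exact mem_range_of_odd_order hn (k := r ^ k) ((hr.out.odd_of_ne_two hr2).pow)
      (by rw [← SubmonoidClass.coe_pow, hk]; rfl)
  let e := MonoidHom.ofInjective (conjNormal_injective hn)
  let ι : P →* Perm (Fin n) := e.symm.toMonoidHom.comp (P.subtype.codRestrict c.range hrange)
  refine isMulCommutative_of_lt_sq hP (by simpa using hlt) ι ?_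
  intro x y h
  have := e.symm.injective h
  exact Subtype.ext (congrArg Subtype.val this :)

end CfsgLib.AutAlt
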